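import Cfsg.Agent.Recog.ExtPrim
import Cfsg.Agent.Classical.Klein

/-! Primitive groups with a non-trivial Fitting subgroup. -/

namespace CF.Recog

open MulAction CF.Perm Cfsg

variable {G Ω : Type*} [Group G] [MulAction G Ω]

theorem centralizer_le_of_trans [FaithfulSMul G Ω] [Nonempty Ω] (N : Subgroup G) [IsMulCommutative N]
    [IsPretransitive N Ω] : Subgroup.centralizer (N : Set G) ≤ N := fun c hc => by
  obtain ⟨a⟩ := ‹Nonempty Ω›
  obtain ⟨n, hn⟩ := exists_smul_eq N a (c • a)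
  have := eq_one_of_commute_trans (M := N) (n := (n : G)⁻¹ * c) (fun m hm => by
    rw [mul_assoc, ← hc m hm, ← mul_assoc, setLike_mul_comm (N.inv_mem n.2) hm, mul_assoc]) (a := a)
    (by rw [mul_smul, inv_smul_eq_iff]; exact hn.symm)
  exact inv_mul_eq_one.1 this ▸ n.2

theorem stab_eq_bot_of_comm [FaithfulSMul G Ω] (N : Subgroup G) [IsMulCommutative N]
    [IsPretransitive N Ω] (a : Ω) : stabilizer N a = ⊥ :=
  (stabilizer_subgroup_eq_bot_iff N a).2 fun _ hg e =>
    eq_one_of_commute_trans (M := N) (fun _ hm => setLike_mul_comm hg hm) e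

theorem nonempty_of_ne_bot [FaithfulSMul G Ω] {N : Subgroup G} (h : N ≠ ⊥) : Nontrivial Ω := by
  obtain ⟨x, hx⟩ := Subgroup.ne_bot_iff_exists_ne_one.1 h
  obtain ⟨a, ha⟩ := exists_smul_ne_of_ne_one (α := Ω) (OneMemClass.coe_eq_one.not.2 hx)
  exact ⟨_, _, ha⟩

variable [Finite G] [FaithfulSMul G Ω] (h : IsPreprimitive G Ω)
include h

theorem prim_fitting (h1 : fittingSubgroup G ≠ ⊥) : Solv.IsMinNormal (fittingSubgroup G) ∧
    IsMulCommutative (fittingSubgroup G) ∧ IsPretransitive (fittingSubgroup G) Ω ∧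
      ∃ p : ℕ, p.Prime ∧ ∀ x ∈ fittingSubgroup G, x ^ p = 1 := by
  obtain ⟨N, p, hp, h2, h3, h4, -⟩ := Solv.exists_isMinNormal_pGroup_le _ h1
  have := h2.1
  have := h4.1
  have := normal_isPretransitive_of_ne_bot h N h2.2.1
  have := nonempty_of_ne_bot (Ω := Ω) h1
  rw [← h3.antisymm (h2.fitting_le_centralizer.trans (centralizer_le_of_trans (Ω := Ω) N))]
  exact ⟨h2, h4.1, ‹_›, p, hp, h4.2⟩

theorem prime_card_of_center (h1 : Subgroup.center G ≠ ⊥) : (Nat.card G).Prime := by
  have := normal_isPretransitive_of_ne_bot h _ h1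
  have := nonempty_of_ne_bot (Ω := Ω) h1
  obtain ⟨a⟩ : Nonempty Ω := inferInstance
  have e : stabilizer G a = ⊥ := eq_bot_iff.2 fun g hg => eq_one_of_commute_trans
    (M := Subgroup.center G) (fun m hm => Subgroup.mem_center_iff.1 hm g) hg
  exact (prime_card_of_isCoatom_bot (e ▸ isCoatom_stab h a)).2

omit h [FaithfulSMul G Ω] in
theorem dvd_card_sub_one [Finite Ω] (a : Ω) {k : ℕ}
    (hk : ∀ b, b ≠ a → k ∣ Nat.card (orbit (stabilizer G a) b)) : k ∣ Nat.card Ω - 1 := by
  have := Classical.dvd_ncard_of_orbits (H := stabilizer G a) {a}ᶜ (Set.toFinite _)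
    (fun g x hx e => hx (by
      have : (g : G) • x = (g : G) • a := Eq.trans e g.2.symm
      exact MulAction.injective _ this)) k hk
  rwa [Set.ncard_compl, Set.ncard_singleton] at this

theorem ep_fitting (hep : ∀ a b : Ω, IsPreprimitive (stabilizer G a) (orbit (stabilizer G a) b))
    {a b : Ω} (hab : b ≠ a) (h1 : fittingSubgroup (stabilizer G a) ≠ ⊥) :
    Nat.card (orbit (stabilizer G a) b) = Nat.card (fittingSubgroup (stabilizer G a)) ∧
      Subgroup.centralizer (fittingSubgroup (stabilizer G a) : Set (stabilizer G a)) ≤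
        fittingSubgroup (stabilizer G a) := by
  have := ep_faithful h hep hab
  obtain ⟨-, _, _, -⟩ := prim_fitting (hep a b) h1
  have c : orbit (stabilizer G a) b := ⟨b, mem_orbit_self b⟩
  have : Nonempty (orbit (stabilizer G a) b) := ⟨c⟩
  exact ⟨(card_eq_of_regular _ c (stab_eq_bot_of_comm _ c)).symm,
    centralizer_le_of_trans (Ω := orbit (stabilizer G a) b) _⟩

end CF.Recog
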