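import Cfsg.Agent.Recog.Affine

/-! Fixed point counts and derangements. -/

namespace CF.Recog

open MulAction CF.Perm Finset

variable {G Ω : Type*} [Group G] [MulAction G Ω]

theorem sum_fix [Fintype G] [Finite Ω] :
    ∑ g : G, Nat.card (fixedBy Ω g) = Nat.card (orbitRel.Quotient G Ω) * Nat.card G := by
  classical
  have := Fintype.ofFinite Ω
  have := Fintype.ofFinite (orbitRel.Quotient G Ω)
  simpa only [Nat.card_eq_fintype_card] using sum_card_fixedBy_eq_card_orbits_mul_card_group G Ω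

instance nonempty_orbits [Nonempty Ω] : Nonempty (orbitRel.Quotient G Ω) :=
  (nonempty_quotient_iff _).2 ‹_›

theorem card_orbits_eq_one [IsPretransitive G Ω] [Nonempty Ω] :
    Nat.card (orbitRel.Quotient G Ω) = 1 :=
  Nat.card_eq_one_iff_unique.2 ⟨(pretransitive_iff_subsingleton_quotient G Ω).1 ‹_›, inferInstance⟩

theorem card_fixedBy_prod {Ω' : Type*} [MulAction G Ω'] (g : G) :
    Nat.card (fixedBy (Ω × Ω') g) = Nat.card (fixedBy Ω g) * Nat.card (fixedBy Ω' g) := by
  rw [← Nat.card_prod]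
  exact Nat.card_congr ((Equiv.subtypeEquivRight fun x => Prod.ext_iff).trans
    (Equiv.subtypeProdEquivProd (p := fun x => g • x = x) (q := fun x => g • x = x)))

theorem sum_fix_subgroup [Fintype G] [Finite Ω] (D : Subgroup G) [DecidablePred (· ∈ D)] :
    ∑ g with g ∈ D, Nat.card (fixedBy Ω g) = Nat.card (orbitRel.Quotient D Ω) * Nat.card D := by
  rw [← sum_fix, sum_subtype (p := (· ∈ D)) _ (by simp)]; rfl

theorem card_filter_notMem [Fintype G] (D : Subgroup G) [DecidablePred (· ∈ D)] :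
    Nat.card D + #{g | g ∉ D} = Nat.card G := by
  rw [Nat.card_eq_fintype_card, Nat.card_eq_fintype_card, Fintype.card_subtype,
    card_filter_add_card_filter_not, card_univ]

theorem card_fixedBy_eq_zero [Finite Ω] {g : G} : Nat.card (fixedBy Ω g) = 0 ↔ ∀ ω : Ω, g • ω ≠ ω := by
  rw [Finite.card_eq_zero_iff, Set.isEmpty_coe_sort, Set.eq_empty_iff_forall_notMem]; rfl

variable (G Ω) in
/-- the subgroup generated by the derangements -/
abbrev der : Subgroup G := Subgroup.closure {g : G | ∀ ω : Ω, g • ω ≠ ω}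

instance der_normal : (der G Ω).Normal := by
  refine ⟨fun x hx g => Subgroup.closure_induction (fun x hx => Subgroup.subset_closure fun ω e =>
    hx (g⁻¹ • ω) (by simpa [mul_smul, smul_eq_iff_eq_inv_smul] using e)) (by simp)
    (fun x y _ _ a b => ?_) (fun x _ a => ?_) hx⟩
  · simpa [mul_assoc] using mul_mem a b
  · simpa [mul_assoc] using inv_mem a

variable [Finite G] [Finite Ω] [IsPretransitive G Ω]

theorem der_spec : IsPretransitive (der G Ω) Ω ∧ ∀ g ∉ der G Ω, Nat.card (fixedBy Ω g) = 1 := by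
  classical
  have := Fintype.ofFinite G
  rcases isEmpty_or_nonempty Ω with h | h
  · exact ⟨⟨fun x => isEmptyElim x⟩, fun g hg => (hg (Subgroup.subset_closure isEmptyElim)).elim⟩
  have a := sum_fix (G := G) (Ω := Ω)
  have l : ∀ g ∈ ({g | g ∉ der G Ω} : Finset G), 1 ≤ Nat.card (fixedBy Ω g) := fun g hg =>
    Nat.pos_of_ne_zero fun e => (mem_filter.1 hg).2 (Subgroup.subset_closure (card_fixedBy_eq_zero.1 e))
  rw [← sum_filter_add_sum_filter_not _ (· ∈ der G Ω), sum_fix_subgroup, card_orbits_eq_one (G := G), one_mul,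
    ← card_filter_notMem (der G Ω), card_eq_sum_ones] at a
  have b := sum_le_sum l
  have c : 1 ≤ Nat.card (orbitRel.Quotient (der G Ω) Ω) := Nat.card_pos
  have d : 0 < Nat.card (der G Ω) := Nat.card_pos
  have e : Nat.card (orbitRel.Quotient (der G Ω) Ω) = 1 := by nlinarith
  rw [e, one_mul, add_right_inj, eq_comm, sum_eq_sum_iff_of_le l] at a
  exact ⟨(pretransitive_iff_subsingleton_quotient _ Ω).2 (Nat.card_eq_one_iff_unique.1 e).1,
    fun g hg => (a g (mem_filter.2 ⟨mem_univ _, hg⟩)).symm⟩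

theorem mem_der {g : G} {a b : Ω} (hab : a ≠ b) (ha : g • a = a) (hb : g • b = b) : g ∈ der G Ω :=
  by_contra fun h => hab (congrArg Subtype.val
    ((Nat.card_eq_one_iff_unique.1 (der_spec.2 g h)).1.elim (⟨a, ha⟩ : fixedBy Ω g) ⟨b, hb⟩))

omit [Finite G] [Finite Ω] [IsPretransitive G Ω] in
theorem relIndex_stab_eq_index (N : Subgroup G) [N.Normal] [IsPretransitive N Ω] (a : Ω) :
    N.relIndex (stabilizer G a) = N.index := by
  rw [← Subgroup.relIndex_sup_left, ← Subgroup.relIndex_top_right]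
  congr 1
  refine eq_top_iff.2 fun g _ => ?_
  obtain ⟨n, hn⟩ := exists_smul_eq N a (g • a)
  rw [← mul_inv_cancel_left (n : G) g]
  exact Subgroup.mul_mem_sup n.2 (by rw [mem_stabilizer_iff, mul_smul, inv_smul_eq_iff]; exact hn.symm)

theorem card_orbit_eq_index_mul {a b : Ω} (hab : b ≠ a) : Nat.card (orbit (stabilizer G a) b) =
    (stabilizer G b).relIndex (der G Ω ⊓ stabilizer G a) * (der G Ω).index := by
  have := (der_spec (G := G) (Ω := Ω)).1
  rw [card_orbit_stab, ← relIndex_stab_eq_index _ a, Subgroup.relIndex_inf_mul_relIndex,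
    ← Subgroup.inf_relIndex_right (_ ⊓ _), ← Subgroup.inf_relIndex_right (stabilizer G b)]
  congr 1
  exact le_antisymm (fun g hg => ⟨⟨hg.1, mem_der hab hg.1 hg.2⟩, hg.2⟩) fun g hg => ⟨hg.1.1, hg.2⟩

theorem index_der_dvd [Nonempty Ω] : (der G Ω).index ∣ Nat.card Ω - 1 :=
  dvd_card_sub_one (Classical.arbitrary Ω) fun _ h => card_orbit_eq_index_mul (G := G) h ▸ dvd_mul_left _ _

end CF.Recog
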