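import Cfsg.Agent.Recog.Basic
import Cfsg.Agent.Solv.Fitting

/-! Extremely primitive groups. -/

namespace CF.Recog

open MulAction CF.Perm

variable {G Ω : Type*} [Group G] [MulAction G Ω]

/-- the pointwise stabiliser of a suborbit -/
def subKer (G : Type*) [Group G] [MulAction G Ω] (a b : Ω) : Subgroup G :=
  fixingSubgroup G (orbit (stabilizer G a) b)

theorem mem_subKer {a b : Ω} {x : G} : x ∈ subKer G a b ↔ ∀ h : G, h • a = a → x • h • b = h • b :=
  (mem_fixingSubgroup_iff G).trans ⟨fun e h k => e _ ⟨⟨h, k⟩, rfl⟩, by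
    rintro e _ ⟨h, rfl⟩; exact e h h.2⟩

theorem conj_mem_subKer {a b : Ω} {x g : G} (h : x ∈ subKer G a b) :
    g * x * g⁻¹ ∈ subKer G (g • a) (g • b) := mem_subKer.2 fun k hk => by
  have := mem_subKer.1 h (g⁻¹ * k * g) (mem_stab_smul.1 hk)
  simp only [mul_smul] at this ⊢
  rw [this, smul_inv_smul]

theorem subKer_le_right (a b : Ω) : subKer G a b ≤ stabilizer G b := fun x h => by
  simpa using mem_subKer.1 h 1 (one_smul _ _)

theorem subKer_smul {a : Ω} (b : Ω) {g : G} (hg : g • a = a) : subKer G a (g • b) = subKer G a b :=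
  congrArg (fixingSubgroup G) (orbit_eq_iff.2 ⟨(⟨g, hg⟩ : stabilizer G a), rfl⟩)

theorem stab_le_normalizer_subKer (a b : Ω) :
    stabilizer G a ≤ Subgroup.normalizer (subKer G a b : Set G) :=
  have k : ∀ g ∈ stabilizer G a, ∀ x ∈ subKer G a b, g * x * g⁻¹ ∈ subKer G a b := fun g hg x hx => by
    have := conj_mem_subKer (g := g) hx
    rwa [show g • a = a from hg, subKer_smul b hg] at this
  fun g hg => Subgroup.mem_normalizer_iff.2 fun x => ⟨k g hg x, fun hx => by
    simpa [mul_assoc] using k _ (inv_mem hg) _ hx⟩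

theorem subKer_le_left [FaithfulSMul G Ω] (h : IsPreprimitive G Ω) (a b : Ω) :
    subKer G a b ≤ stabilizer G a := by
  rcases subsingleton_or_nontrivial Ω with _ | _
  · exact fun _ _ => Subsingleton.elim _ _
  rcases (stab_le_normalizer_subKer (G := G) a b).eq_or_lt with e | e
  · exact Subgroup.le_normalizer.trans e.ge
  · rw [normal_eq_bot (Subgroup.normalizer_eq_top_iff.1 ((isCoatom_stab h a).2 _ e))
      (subKer_le_right a b)]
    exact bot_le

theorem card_subKer_smul [Finite G] (g : G) (a b : Ω) :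
    Nat.card (subKer G (g • a) (g • b)) = Nat.card (subKer G a b) :=
  have k : ∀ (g : G) (a b : Ω), Nat.card (subKer G a b) ≤ Nat.card (subKer G (g • a) (g • b)) :=
    fun g a b => Nat.card_le_card_of_injective (fun x => ⟨_, conj_mem_subKer x.2⟩)
      fun x y e => Subtype.ext (by simpa using e)
  (by simpa using k g⁻¹ (g • a) (g • b) : _ ≤ _).antisymm (k g a b)

/-- connectivity of orbital graphs -/
theorem eq_univ_of_closed [Finite G] (h : IsPreprimitive G Ω) {a b : Ω} (hab : b ≠ a) {F : Set Ω}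
    (ha : a ∈ F) (hF : ∀ g : G, g • a ∈ F → g • b ∈ F) (c : Ω) : c ∈ F := by
  have : Nontrivial Ω := ⟨_, _, hab⟩
  obtain ⟨x, rfl⟩ := exists_smul_eq G a b
  obtain ⟨y, rfl⟩ := exists_smul_eq G a c
  let S : Submonoid G :=
    { carrier := {y | ∀ g : G, g • a ∈ F → g • y • a ∈ F}
      mul_mem' := fun {u v} hu hv g hg => by
        simpa only [mul_smul] using hv (g * u) (by simpa only [mul_smul] using hu g hg)
      one_mem' := fun g hg => by simpa using hg }
  let T : Subgroup G := { S with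
    inv_mem' := fun {u} hu => by
      have : u⁻¹ = u ^ (orderOf u - 1) := by
        rw [inv_eq_iff_mul_eq_one, ← pow_succ', Nat.sub_add_cancel (orderOf_pos u), pow_orderOf_eq_one]
      exact this ▸ S.pow_mem hu _ }
  have l : stabilizer G a ≤ T := fun u hu g hg => by rwa [show u • a = a from hu]
  have : T = ⊤ := (isCoatom_stab h a).2 _ (l.lt_of_ne fun e => hab (e.ge (hF : x ∈ T)))
  simpa using (this.ge (Subgroup.mem_top y) : y ∈ T) 1 (by simpa)

/-- a subgroup normalised by `G_a` is trivial or transitive on a primitive suborbit -/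
theorem exists_smul_of_not_le {a b : Ω}
    (hp : IsPreprimitive (stabilizer G a) (orbit (stabilizer G a) b)) {M : Subgroup G}
    (hM : M ≤ stabilizer G a) (hn : stabilizer G a ≤ Subgroup.normalizer (M : Set G))
    (h : ¬ M ≤ subKer G a b) {g : G} (hg : g • a = a) : ∃ m ∈ M, m • b = g • b := by
  have : (M.subgroupOf (stabilizer G a)).Normal := Subgroup.normal_subgroupOf_of_le_normalizer hn
  obtain ⟨x, hx, e⟩ := SetLike.not_le_iff_exists.1 h
  obtain ⟨k, hk⟩ := not_forall.1 (mt mem_subKer.2 e)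
  obtain ⟨h1, h2⟩ := Classical.not_imp.1 hk
  obtain ⟨m, hm⟩ := (normal_isPretransitive_of_prim hp (M.subgroupOf _) (n := ⟨x, hM hx⟩) hx
    (a := ⟨k • b, ⟨k, h1⟩, rfl⟩) fun e => h2 (congrArg Subtype.val e)).exists_smul_eq
      ⟨b, mem_orbit_self b⟩ ⟨g • b, ⟨g, hg⟩, rfl⟩
  exact ⟨m, m.2, congrArg Subtype.val hm⟩

variable [Finite G] [FaithfulSMul G Ω] (h : IsPreprimitive G Ω)
  (hep : ∀ a b : Ω, IsPreprimitive (stabilizer G a) (orbit (stabilizer G a) b))
include h hep

theorem subKer_eq_bot {a b : Ω} (hab : b ≠ a) : subKer G a b = ⊥ := by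
  have := finite_of_trans (G := G) (Ω := Ω)
  obtain ⟨⟨α, ω⟩, h1, h2⟩ := Set.exists_max_image {x : Ω × Ω | x.2 ≠ x.1}
    (fun x => Nat.card (subKer G x.1 x.2)) (Set.toFinite _) ⟨(a, b), hab⟩
  refine Subgroup.card_le_one_iff_eq_bot _ |>.1 ((h2 (a, b) hab).trans
    ((Subgroup.card_le_one_iff_eq_bot _).2 (by_contra fun k => ?_)))
  obtain ⟨g, g1, g2⟩ : ∃ g : G, subKer G α ω ≤ stabilizer G (g • α) ∧
      ¬ subKer G α ω ≤ stabilizer G (g • ω) := by
    by_contra! c
    exact k (eq_bot_iff.2 fun x hx => eq_one_of_smul_eq fun y => eq_univ_of_closed h h1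
      (F := {y | subKer G α ω ≤ stabilizer G y}) (subKer_le_left h α ω) c y hx)
  have g3 : g • ω ≠ α := fun e => g2 (e ▸ subKer_le_left h α ω)
  have g4 : g • α ≠ α := fun e => g2 (subKer_smul ω e ▸ subKer_le_right α (g • ω))
  have l : subKer G (g • α) (g • ω) ≤ subKer G α (g • ω) := fun x hx => mem_subKer.2 fun y hy => by
    obtain ⟨m, m1, m2⟩ := exists_smul_of_not_le (hep α (g • ω)) (subKer_le_left h α ω)
      (stab_le_normalizer_subKer α ω) (fun e => g2 (e.trans (subKer_le_right _ _))) hy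
    rw [← m2]
    exact mem_subKer.1 hx m (g1 m1)
  have e := Subgroup.eq_of_le_of_card_ge l ((h2 (α, g • ω) g3).trans (card_subKer_smul g α ω).ge)
  have := eq_bot_of_norm_two h g4 (subKer_le_left h _ (g • ω)) (stab_le_normalizer_subKer _ _)
    (e ▸ stab_le_normalizer_subKer _ _)
  exact k (Subgroup.card_eq_one.1 (by rw [← card_subKer_smul g, this, Subgroup.card_bot]))

theorem ep_trans {a b : Ω} (hab : b ≠ a) {M : Subgroup G} (h1 : M ≠ ⊥)
    (hM : M ≤ stabilizer G a) (hn : stabilizer G a ≤ Subgroup.normalizer (M : Set G))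
    {g : G} (hg : g • a = a) : ∃ m ∈ M, m • b = g • b :=
  exists_smul_of_not_le (hep a b) hM hn (by rwa [subKer_eq_bot h hep hab, le_bot_iff]) hg

theorem ep_faithful {a b : Ω} (hab : b ≠ a) :
    FaithfulSMul (stabilizer G a) (orbit (stabilizer G a) b) :=
  ⟨fun {x y} e => inv_mul_eq_one.1 (Subtype.ext ((subKer_eq_bot h hep hab).le
    ((mem_fixingSubgroup_iff G).2 fun c hc => by
      rw [Subgroup.coe_mul, mul_smul, Subgroup.coe_inv, inv_smul_eq_iff]
      exact congrArg Subtype.val (e ⟨c, hc⟩).symm)))⟩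

theorem ep_irr {N : Subgroup G} [N.Normal] [IsMulCommutative N] {a : Ω} (hr : stabilizer N a = ⊥)
    [IsPretransitive N Ω] {M : Subgroup G} (h1 : M ≠ ⊥) (hM : M ≤ stabilizer G a)
    (hn : stabilizer G a ≤ Subgroup.normalizer (M : Set G)) (L : Subgroup G) (hL : L ≤ N)
    (hML : ∀ m ∈ M, ∀ x ∈ L, m * x * m⁻¹ ∈ L) : L = ⊥ ∨ L = N := by
  have n : L.Normal := ⟨fun x hx g => by
    obtain ⟨y, hy⟩ := exists_smul_eq N a (g⁻¹ • a)
    have gy : (g * y) • a = a := by rw [mul_smul, show (y : G) • a = _ from hy, smul_inv_smul]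
    rw [show g * x * g⁻¹ = g * y * x * (g * y)⁻¹ by
      rw [mul_assoc g y, setLike_mul_comm y.2 (hL hx)]; group]
    by_cases e : x • a = a
    · rw [(stabilizer_subgroup_eq_bot_iff N a).1 hr x (hL hx) e, mul_one, mul_inv_cancel]
      exact L.one_mem
    obtain ⟨m, m1, m2⟩ := ep_trans h hep e h1 hM hn gy
    rw [← eq_of_smul_eq_of_regular hr (Subgroup.Normal.conj_mem ‹_› _ (hL hx) m)
      (Subgroup.Normal.conj_mem ‹_› _ (hL hx) (g * y)) (by
        simp only [mul_smul _ _ a, inv_smul_eq_iff.2 gy.symm, inv_smul_eq_iff.2 (hM m1).symm, m2])]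
    exact hML m m1 x hx⟩
  refine or_iff_not_imp_left.2 fun b => hL.antisymm fun x hx => ?_
  obtain ⟨y, hy⟩ := (normal_isPretransitive_of_ne_bot h L b).exists_smul_eq a (x • a)
  exact eq_of_smul_eq_of_regular hr (hL y.2) hx hy ▸ y.2

end CF.Recog
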