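import Mathlib
import Cfsg.Agent.Sig.Amb
import Cfsg.Agent.Loc.Sn
import Cfsg.Agent.Perm.RegPrim

/-! The Thompson–Wielandt theorem for primitive permutation groups. -/

set_option linter.unusedSectionVars false

namespace CF.Recog

open MulAction Subgroup Cfsg CF.BG CF.Sig

variable {G Ω : Type*} [Group G] [MulAction G Ω]

/-- `r` is a non-diagonal orbital of `G`. -/
structure Orb (G : Type*) {Ω : Type*} [Group G] [MulAction G Ω] (r : Ω → Ω → Prop) : Prop where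
  inv : ∀ (g : G) {x y}, r x y → r (g • x) (g • y)
  trans : ∀ {x y x' y'}, r x y → r x' y' → ∃ g : G, g • x = x' ∧ g • y = y'
  ne : ∀ {x y}, r x y → x ≠ y
  out : ∀ x, ∃ y, r x y
  inn : ∀ y, ∃ x, r x y

/-- The kernel of the stabiliser of `x` on the out-neighbours of `x`. -/
def Kr (G : Type*) {Ω : Type*} [Group G] [MulAction G Ω] (r : Ω → Ω → Prop) (x : Ω) :
    Subgroup G := stabilizer G x ⊓ fixingSubgroup G {y | r x y}

/-- The pointwise stabiliser of the out-neighbours of `x` and of their in-neighbours. -/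
def Pr (G : Type*) {Ω : Type*} [Group G] [MulAction G Ω] (r : Ω → Ω → Prop) (x : Ω) :
    Subgroup G := Kr G r x ⊓ fixingSubgroup G {x' | ∃ y, r x y ∧ r x' y}

variable {r : Ω → Ω → Prop} {x y z : Ω}

theorem mem_Kr {g : G} : g ∈ Kr G r x ↔ g • x = x ∧ ∀ y, r x y → g • y = y := by
  simp [Kr, mem_fixingSubgroup_iff]

theorem mem_Pr {g : G} : g ∈ Pr G r x ↔ g ∈ Kr G r x ∧ ∀ y x', r x y → r x' y → g • x' = x' := by
  simp only [Pr, Subgroup.mem_inf, mem_fixingSubgroup_iff, Set.mem_ofPred_eq]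
  exact and_congr_right fun _ => ⟨fun h y x' h1 h2 => h x' ⟨y, h1, h2⟩,
    fun h x' ⟨y, h1, h2⟩ => h y x' h1 h2⟩

theorem Kr_le : Kr G r x ≤ stabilizer G x := inf_le_left

theorem Kr_le' (h : r x y) : Kr G r x ≤ stabilizer G y := fun _ hg => (mem_Kr.1 hg).2 y h

theorem Pr_le : Pr G r x ≤ Kr G r x := inf_le_left

theorem Pr_le' (h : r x y) : Pr G r x ≤ Kr G (flip r) y := fun _ hg =>
  mem_Kr.2 ⟨Kr_le' h (Pr_le hg), fun x' h' => (mem_Pr.1 hg).2 y x' h h'⟩

theorem cj_stab (g : G) (x : Ω) : cj g (stabilizer G x) = stabilizer G (g • x) := by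
  ext h
  simp only [mem_cj, mem_stabilizer_iff, mul_smul, inv_smul_eq_iff]

namespace Orb

theorem flip (h : Orb G r) : Orb G (flip r) :=
  ⟨fun g _ _ h' => h.inv g h', fun h1 h2 => (h.trans h1 h2).imp fun _ h => h.symm,
    fun h' => (h.ne h').symm, h.inn, h.out⟩

theorem iff (h : Orb G r) (g : G) : r (g • x) (g • y) ↔ r x y :=
  ⟨fun h' => by simpa using h.inv g⁻¹ h', h.inv g⟩

theorem cj_Kr (h : Orb G r) (g : G) (x : Ω) : cj g (Kr G r x) = Kr G r (g • x) := by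
  ext k
  simp only [mem_cj, mem_Kr, mul_smul, inv_smul_eq_iff]
  exact and_congr_right fun _ => ⟨fun h' y hy => by
    simpa using h' (g⁻¹ • y) (by simpa using h.inv g⁻¹ hy), fun h' y hy => h' _ (h.inv g hy)⟩

theorem cj_Pr (h : Orb G r) (g : G) (x : Ω) : cj g (Pr G r x) = Pr G r (g • x) := by
  ext k
  rw [mem_cj, mem_Pr, mem_Pr, ← mem_cj, h.cj_Kr]
  simp only [mul_smul, inv_smul_eq_iff]
  exact and_congr_right fun _ => ⟨fun h' y x' hy hx' => by
    simpa using h' (g⁻¹ • y) (g⁻¹ • x') (by simpa using h.inv g⁻¹ hy) (h.inv g⁻¹ hx'),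
    fun h' y x' hy hx' => h' _ _ (h.inv g hy) (h.inv g hx')⟩

theorem Kr_normal (h : Orb G r) (x : Ω) : Kr G r x ⊴ stabilizer G x :=
  ⟨Kr_le, le_norm_of_cj fun g hg => by rw [h.cj_Kr, hg]⟩

theorem Pr_normal (h : Orb G r) (x : Ω) : Pr G r x ⊴ stabilizer G x :=
  ⟨Pr_le.trans Kr_le, le_norm_of_cj fun g hg => by rw [h.cj_Pr, hg]⟩

theorem Pr_normal' (h : Orb G r) (hxy : r x y) : Pr G r x ⊴ Kr G (_root_.flip r) y :=
  ⟨Pr_le' hxy, (Kr_le' (r := _root_.flip r) hxy).trans (h.Pr_normal x).norm⟩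

theorem Pr_subN (h : Orb G r) (hxy : r x y) : SubN (Pr G r x) (stabilizer G y) :=
  .step (h.Pr_normal' hxy).subN (h.flip.Kr_normal y)

theorem le_Kr (h : Orb G r) {N : Subgroup G} (hN : N ⊴ stabilizer G x) (hxy : r x y)
    (hy : N ≤ stabilizer G y) : N ≤ Kr G r x := by
  intro n hn
  refine mem_Kr.2 ⟨hN.le hn, fun z hz => ?_⟩
  obtain ⟨g, h1, rfl⟩ := h.trans hxy hz
  have := hy (hN.conj_mem' h1 hn)
  simpa only [mem_stabilizer_iff, mul_smul, inv_smul_eq_iff] using this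

theorem exists_smul (h : Orb G r) (x y : Ω) : ∃ g : G, g • x = y := by
  obtain ⟨x', hx⟩ := h.out x
  obtain ⟨y', hy⟩ := h.out y
  exact (h.trans hx hy).imp fun _ h => h.1

theorem Pr_ne_bot (h : Orb G r) (hx : Pr G r x ≠ ⊥) (y : Ω) : Pr G r y ≠ ⊥ := by
  obtain ⟨g, rfl⟩ := h.exists_smul x y
  rwa [← h.cj_Pr, ne_eq, cj_eq_bot]

theorem res_ne_bot (h : Orb G r) {p : ℕ} (hx : pResidualOf p (Pr G r x) ≠ ⊥) (y : Ω) :
    pResidualOf p (Pr G r y) ≠ ⊥ := by
  obtain ⟨g, rfl⟩ := h.exists_smul x y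
  rw [← h.cj_Pr, cj_def, ← CF.Loc.cj_pResidualOf]
  exact fun h => hx (cj_eq_bot.1 h)

end Orb

section prim

variable [FaithfulSMul G Ω] (hprim : IsPreprimitive G Ω)
include hprim

theorem norm_le_stab {N : Subgroup G} (h1 : N ≠ ⊥) (hN : N ⊴ stabilizer G x) :
    𝐍 N ≤ stabilizer G x := by
  obtain ⟨n, hn, hn1⟩ := exists_mem_ne_one h1
  obtain ⟨y, hy⟩ := CF.Perm.exists_smul_ne_of_ne_one (α := Ω) hn1
  have : Nontrivial Ω := ⟨⟨_, _, hy⟩⟩
  rcases (IsPreprimitive.isCoatom_stabilizer_of_isPreprimitive G x).le_iff.1 hN.norm with h | h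
  · exfalso
    obtain ⟨g, rfl⟩ := hprim.exists_smul_eq x y
    have := hN.le (conj_mem_of_norm' (h ▸ mem_top g) hn)
    exact hy (by simpa only [mem_stabilizer_iff, mul_smul, inv_smul_eq_iff] using this)
  · exact h.le

theorem eq_of_norm [Finite G] {N : Subgroup G} (h1 : N ≠ ⊥) (hN : N ⊴ stabilizer G x)
    (hy : stabilizer G y ≤ 𝐍 N) : x = y := by
  obtain ⟨g, rfl⟩ := hprim.exists_smul_eq x y
  have h2 := hy.trans (norm_le_stab hprim h1 hN)
  rw [← cj_stab] at h2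
  exact (norm_le_stab hprim (ne_bot_mono h1 hN.le) (.refl _) (mem_norm_of_cj_le h2)).symm

theorem O_eq_bot_of_le [Finite G] {π : Set ℕ} (hxy : x ≠ y)
    (h : 𝐎 π (stabilizer G x) ≤ 𝐎 π (stabilizer G y)) : 𝐎 π (stabilizer G x) = ⊥ := by
  by_contra h1
  refine hxy (eq_of_norm hprim h1 (O_normal _ _) ?_)
  obtain ⟨g, rfl⟩ := hprim.exists_smul_eq x y
  rw [eq_of_le_of_card_ge h (by rw [← cj_stab, ← cj_O, card_cj])]
  exact (O_normal _ _).norm

theorem Lay_eq_bot_of_le [Finite G] (hxy : x ≠ y)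
    (h : Lay (stabilizer G x) ≤ Lay (stabilizer G y)) : Lay (stabilizer G x) = ⊥ := by
  by_contra h1
  refine hxy (eq_of_norm hprim h1 (Lay_normal _) ?_)
  obtain ⟨g, rfl⟩ := hprim.exists_smul_eq x y
  rw [eq_of_le_of_card_ge h (by rw [← cj_stab, ← cj_Lay, card_cj])]
  exact (Lay_normal _).norm

variable [Finite G] (h : Orb G r)
include h

theorem Orb.Lay_le (hP : Pr G r x ≠ ⊥) (hxy : r x y) : Lay (stabilizer G y) ≤ stabilizer G x :=
  (Lay_norm_subN (h.Pr_subN hxy)).trans (norm_le_stab hprim hP (h.Pr_normal x))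

theorem Orb.O_le {q : ℕ} (hq : q.Prime) (hP : pResidualOf q (Pr G r x) ≠ ⊥) (hxy : r x y) :
    𝐎 {q} (stabilizer G y) ≤ Kr G (_root_.flip r) y := by
  refine h.flip.le_Kr (O_normal _ _) hxy ?_
  have h1 : CF.Loc.Sn (Pr G r x) (stabilizer G y) :=
    .step (h.Pr_normal' hxy).le (h.Pr_normal' hxy).norm
      (.of_normal (h.flip.Kr_normal y).le (h.flip.Kr_normal y).norm)
  rw [← map_pCore hq]
  exact (h1.pCoreOf_le_normalizer (p := q)).trans (norm_le_stab hprim hP ((h.Pr_normal x).char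
    (CF.Loc.pResidualOf_le _ _) (CF.Loc.normalizer_le_normalizer_pResidualOf _ _)))

theorem Orb.O_Kr_le {q : ℕ} (hq : q.Prime) (hP : pResidualOf q (Pr G r z) ≠ ⊥) (x : Ω) :
    𝐎 {q} (Kr G r x) ≤ Pr G r x := by
  intro g hg
  refine mem_Pr.2 ⟨BG.O_le _ _ hg, fun y a hxy hay => ?_⟩
  have hP' := h.res_ne_bot hP a
  have h1 := h.O_le hprim hq hP' hay
  set Y := pResidualOf q (Pr G r a) with hY
  have hYn : Y ⊴ stabilizer G a := (h.Pr_normal a).char
    (CF.Loc.pResidualOf_le _ _) (CF.Loc.normalizer_le_normalizer_pResidualOf _ _)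
  have hYK : Y ≤ Kr G (_root_.flip r) y := (CF.Loc.pResidualOf_le _ _).trans (Pr_le' hay)
  set Q := 𝐎 {q} (stabilizer G y) with hQ
  set U := 𝐎 {q} (Kr G r x) with hU
  have hUn : U ⊴ stabilizer G x := (h.Kr_normal x).O _
  have hUy : U ≤ stabilizer G y := (BG.O_le _ _).trans (Kr_le' hxy)
  have hKx : Kr G (_root_.flip r) y ≤ stabilizer G x := Kr_le' (r := _root_.flip r) hxy
  have h2 : U ⊓ Kr G (_root_.flip r) y ≤ Q :=
    (le_O (normalIn_inf_right (hKx.trans hUn.norm)) (O_pi _ _).inf_left).trans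
      (O_le_O_of_normal (h.flip.Kr_normal y) _)
  have h3 : U ≤ 𝐍 (Y ⊔ Q) := by
    rw [le_norm_iff]
    intro u hu k hk
    have hQY : Q ≤ 𝐍 Y := h1.trans ((Kr_le' (r := _root_.flip r) hay).trans hYn.norm)
    obtain ⟨s, hs, t, ht, rfl⟩ := (mem_sup_of_le_normalizer' hQY).1 hk
    have e : u * (s * t) * u⁻¹ = s * (s⁻¹ * u * s * u⁻¹) * (u * t * u⁻¹) := by group
    rw [e]
    refine mul_mem (mul_mem (mem_sup_left hs) (mem_sup_right (h2 ⟨?_, ?_⟩)))
      (mem_sup_right ((O_normal _ _).conj_mem (hUy hu) ht))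
    · exact U.mul_mem (hUn.conj_mem' (hKx (hYK hs)) hu) (U.inv_mem hu)
    · rw [mul_assoc, mul_assoc]
      exact (Kr G (_root_.flip r) y).mul_mem ((Kr G (_root_.flip r) y).inv_mem (hYK hs))
        (by simpa [mul_assoc] using (h.flip.Kr_normal y).conj_mem (hUy hu) (hYK hs))
  have h4 := h3.trans (CF.Loc.normalizer_le_normalizer_pResidualOf q _)
  rw [CF.Loc.pResidualOf_sup_eq (O_pi _ _).isPGroup
    (h1.trans ((Kr_le' (r := _root_.flip r) hay).trans hYn.norm)),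
    CF.Loc.pResidualOf_pResidualOf] at h4
  exact norm_le_stab hprim hP' hYn (h4 hg)

theorem Orb.O_eq_bot {q : ℕ} (hq : q.Prime) (hP : pResidualOf q (Pr G r z) ≠ ⊥)
    (hP' : pResidualOf q (Pr G (_root_.flip r) z) ≠ ⊥) (x : Ω) : 𝐎 {q} (stabilizer G x) = ⊥ := by
  obtain ⟨y, hxy⟩ := h.out x
  refine O_eq_bot_of_le hprim (h.ne hxy) (subN_le_O ((NormalIn.subN ⟨?_, ?_⟩).trans
    (h.Pr_subN hxy)) (O_pi _ _))
  · have h1 := h.flip.O_le hprim hq (h.flip.res_ne_bot hP' y) hxy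
    exact (O_le_O_of_le Kr_le h1).trans (h.O_Kr_le hprim hq hP x)
  · exact (h.Pr_normal x).le.trans (O_normal _ _).norm

/-- One of the two kernels is a `p`-group. -/
theorem Orb.exists_isPGroup (x : Ω) :
    ∃ p : ℕ, p.Prime ∧ (PiGrp {p} (Pr G r x) ∨ PiGrp {p} (Pr G (_root_.flip r) x)) := by
  by_contra! hc
  have h1 : ∀ p : ℕ, p.Prime → ∀ X : Subgroup G, ¬ PiGrp {p} X → pResidualOf p X ≠ ⊥ :=
    fun p hp X hX h => hX (piGrp_of_isPGroup hp
      (have := Fact.mk hp; CF.Loc.isPGroup_of_pResidualOf_eq_bot h))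
  have hF : ∀ y : Ω, 𝐅 (stabilizer G y) = ⊥ := fun y => le_bot_iff.1 (F_le_of_forall
    fun p hp _ => (h.O_eq_bot hprim hp (h1 p hp _ (hc p hp).1) (h1 p hp _ (hc p hp).2) y).le)
  have hP : Pr G r x ≠ ⊥ := fun h => (hc 2 Nat.prime_two).1 (h ▸ piGrp_bot _)
  have hP' : Pr G (_root_.flip r) x ≠ ⊥ := fun h => (hc 2 Nat.prime_two).2 (h ▸ piGrp_bot _)
  obtain ⟨y, hxy⟩ := h.out x
  have l1 := h.Lay_le hprim hP hxy
  have l2 := h.flip.Lay_le hprim (h.flip.Pr_ne_bot hP' y) hxy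
  have hL : Lay (stabilizer G x) = ⊥ := by
    refine Lay_eq_bot_of_le hprim (h.ne hxy) (Lay_le_iff.2 fun L hL => ?_)
    have hLy := hL.le_Lay.trans l2
    refine (hL.le_or_cent l1 (hLy.trans (Lay_normal _).norm)).resolve_right fun hc => hL.ne_bot ?_
    refine eq_bot_mono (hF y) (le_trans (le_inf hLy ?_) (cent_Fst_le _))
    rwa [Fst_eq, hF, sup_bot_eq]
  have := cent_Fst_le (stabilizer G x)
  rw [Fst_eq, hL, hF, sup_bot_eq, cent_bot, inf_top_eq] at this
  exact hP (eq_bot_mono rfl ((h.Pr_normal x).le.trans this))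

theorem Orb.charP_aux {p : ℕ} (hp : p.Prime) (hP : Pr G r x ≠ ⊥)
    (hP' : Pr G (_root_.flip r) x ≠ ⊥) (hpi : PiGrp {p} (Pr G r x)) :
    CharP p (stabilizer G x) := by
  have hpi' : ∀ y, PiGrp {p} (Pr G r y) := fun y => by
    obtain ⟨g, rfl⟩ := h.exists_smul x y
    rw [← h.cj_Pr]
    exact hpi.cj g
  have hO : ∀ q : ℕ, q.Prime → q ≠ p → ∀ y : Ω, 𝐎 {q} (stabilizer G y) = ⊥ := by
    intro q hq hne
    have := Fact.mk hq
    have h1 : pResidualOf q (Pr G r x) ≠ ⊥ := fun h => hP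
      ((piGrp_of_isPGroup hq (CF.Loc.isPGroup_of_pResidualOf_eq_bot h)).eq_bot
        (hpi.of_single_ne hne.symm))
    refine h.O_eq_bot hprim hq h1 fun h2 => hP' ?_
    have h3 := piGrp_of_isPGroup hq (CF.Loc.isPGroup_of_pResidualOf_eq_bot h2)
    obtain ⟨y, hy⟩ := h.inn x
    have h4 := (subN_le_O (h.flip.Pr_normal' hy).subN h3).trans (h.O_Kr_le hprim hq h1 y)
    exact h3.eq_bot (((hpi' y).le h4).of_single_ne hne.symm)
  have hF : ∀ y : Ω, 𝐅 (stabilizer G y) ≤ 𝐎 {p} (stabilizer G y) := fun y =>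
    F_le_of_forall fun q hq _ => by
      by_cases hqp : q = p
      · rw [hqp]
      · rw [hO q hq hqp]; exact bot_le
  obtain ⟨y, hxy⟩ := h.out x
  have l1 := h.Lay_le hprim hP hxy
  have l2 := h.flip.Lay_le hprim (h.flip.Pr_ne_bot hP' y) hxy
  have hL : Lay (stabilizer G x) = ⊥ := by
    refine Lay_eq_bot_of_le hprim (h.ne hxy) (Lay_le_iff.2 fun L hL => ?_)
    have hLy := hL.le_Lay.trans l2
    refine (hL.le_or_cent l1 (hLy.trans (Lay_normal _).norm)).resolve_right fun hc => hL.not_sol ?_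
    set Q := 𝐎 {p} (stabilizer G y) with hQ
    have hn : L ≤ 𝐍 Q := hLy.trans (O_normal _ _).norm
    have hU : L ≤ 𝐂 (Q ⊓ stabilizer G x) := hL.cent_of_sol inf_le_right
      (norm_inf hn (norm_of_le hL.le)) (O_pi _ _).inf_left.sol
    have hPU : Pr G r x ≤ Q ⊓ stabilizer G x :=
      le_inf (subN_le_O (h.Pr_subN hxy) hpi) (h.Pr_normal x).le
    have hc2 : L ≤ 𝐂 Q := by
      refine le_of_pi'_elts (p := p) hL.perfect (norm_cent hn) fun g hg hg' => ?_
      have hz := zpowers_le.2 hg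
      refine zpowers_le.1 (Nil.cent_of_cent_cent (O_pi _ _).nil (hz.trans hn)
        (PiNat.coprime' hg'.zpowers (O_pi _ _)) inf_le_left (cent_symm (hz.trans hU)) ?_)
      refine le_trans (le_inf inf_le_left (inf_le_right.trans ?_)) (cent_symm (hz.trans hU))
      exact (cent_anti hPU).trans ((cent_le_norm _).trans (norm_le_stab hprim hP (h.Pr_normal x)))
    refine (nil_of_le_F (le_trans (le_inf hLy ?_) (cent_Fst_le _))).sol
    rw [Fst_eq]
    exact le_cent_sup hc (hc2.trans (cent_anti (hF y)))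
  exact (inf_le_inf_left _ (cent_anti (hF x))).trans ((cent_F_le_of_Lay hL).trans (hF x))

theorem Orb.charP (hP : Pr G r x ≠ ⊥) (hP' : Pr G (_root_.flip r) x ≠ ⊥) :
    ∃ p : ℕ, p.Prime ∧ CharP p (stabilizer G x) := by
  obtain ⟨p, hp, h1 | h1⟩ := h.exists_isPGroup hprim x
  · exact ⟨p, hp, h.charP_aux hprim hp hP hP' h1⟩
  · exact ⟨p, hp, h.flip.charP_aux hprim hp hP' hP h1⟩

end prim

section index

/-- The action of `H` on an invariant set. -/
def restrHom (H : Subgroup G) (S : Set Ω) (hS : ∀ h ∈ H, ∀ y ∈ S, h • y ∈ S) :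
    H →* Equiv.Perm S :=
  MulAction.toPermHom H (⟨S, fun h _ hy => hS h h.2 _ hy⟩ : SubMulAction H Ω)

theorem restrHom_eq_one {H : Subgroup G} {S : Set Ω} {hS : ∀ h ∈ H, ∀ y ∈ S, h • y ∈ S} {g : H} :
    restrHom H S hS g = 1 ↔ ∀ y ∈ S, (g : G) • y = y :=
  ⟨fun h y hy => congrArg Subtype.val (Equiv.congr_fun h ⟨y, hy⟩),
    fun h => Equiv.ext fun y => Subtype.ext (h y y.2)⟩

theorem index_ker_dvd {A B : Type*} [Group A] [Group B] (f : A →* B) : f.ker.index ∣ Nat.card B := by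
  rw [index_ker]
  exact card_subgroup_dvd_card _

variable [Finite Ω] (h : Orb G r)
include h

theorem Orb.ncard_eq (hxy : r x y) :
    {z | r x z}.ncard = (stabilizer G y).relIndex (stabilizer G x) := by
  rw [← CF.Perm.card_orbit_subgroup, Nat.card_coe_set_eq]
  congr 1
  ext z
  rw [CF.Perm.mem_orbit_subgroup_iff]
  exact ⟨fun hz => h.trans hxy hz, by
    rintro ⟨g, hg, rfl⟩
    simpa [show g • x = x from hg] using h.inv g hxy⟩

theorem Orb.ncard_flip [Finite G] (hxy : r x y) : {z | r z y}.ncard = {z | r x z}.ncard := by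
  have h1 := h.flip.ncard_eq (x := y) hxy
  rw [h.ncard_eq hxy]
  refine h1.trans ?_
  have h2 := CF.Solv.card_inf_mul_relIndex (stabilizer G x) (stabilizer G y)
  have h3 := CF.Solv.card_inf_mul_relIndex (stabilizer G y) (stabilizer G x)
  obtain ⟨g, rfl⟩ := h.exists_smul x y
  rw [inf_comm, ← card_cj g (stabilizer G x), cj_stab, ← h2] at h3
  exact (Nat.eq_of_mul_eq_mul_left Nat.card_pos h3).symm

theorem Orb.relIndex_Pr_dvd [Finite G] (x : Ω) {d : ℕ} (hd : {z | r x z}.ncard = d) :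
    (Pr G r x).relIndex (stabilizer G x) ∣ d.factorial * (d - 1).factorial ^ d := by
  classical
  rw [← relIndex_mul_relIndex _ _ _ Pr_le Kr_le, mul_comm]
  refine mul_dvd_mul ?_ ?_
  · have := index_ker_dvd (restrHom (stabilizer G x) {z | r x z} fun g hg y hy => by
      simpa [show g • x = x from hg] using h.inv g hy)
    rw [Nat.card_perm, Nat.card_coe_set_eq, hd] at this
    refine (congrArg index (Subgroup.ext fun g => ?_)).dvd.trans this
    rw [mem_subgroupOf, MonoidHom.mem_ker, restrHom_eq_one, mem_Kr]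
    exact ⟨fun h => h.2, fun h => ⟨g.2, h⟩⟩
  · have := Fintype.ofFinite {z | r x z}
    have := index_ker_dvd (MonoidHom.pi fun y : {z | r x z} =>
      restrHom (Kr G r x) ({z | r z y} \ {x}) fun g hg z hz => ⟨by
        simpa [(mem_Kr.1 hg).2 y y.2] using h.inv g hz.1, fun h' => hz.2 (by
          rw [Set.mem_singleton_iff, ← (mem_Kr.1 hg).1, smul_left_cancel_iff] at h'
          exact h')⟩)
    rw [Nat.card_pi, Finset.prod_congr rfl (g := fun _ => (d - 1).factorial) fun y _ => by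
      rw [Nat.card_perm, Nat.card_coe_set_eq, Set.ncard_sdiff_singleton_of_mem (by exact y.2),
        h.ncard_flip y.2, hd], Finset.prod_const, Finset.card_univ, ← Nat.card_eq_fintype_card,
      Nat.card_coe_set_eq, hd] at this
    refine (congrArg index (Subgroup.ext fun g => ?_)).dvd.trans this
    rw [mem_subgroupOf, MonoidHom.mem_ker, funext_iff, mem_Pr]
    simp only [MonoidHom.pi_apply, Pi.one_apply]
    refine ⟨fun h y => restrHom_eq_one.2 fun z hz => h.2 y z y.2 hz.1, fun h => ⟨g.2, fun y z hy hz => ?_⟩⟩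
    by_cases hzx : z = x
    · rw [hzx]; exact (mem_Kr.1 g.2).1
    · exact restrHom_eq_one.1 (h ⟨y, hy⟩) z ⟨hz, hzx⟩

theorem Orb.card_dvd [Finite G] (hxy : r x y) {d : ℕ} (hd : {z | r x z}.ncard = d)
    (hP : Pr G r x = ⊥ ∨ Pr G (_root_.flip r) x = ⊥) :
    ♯(stabilizer G x) ∣ d.factorial * (d - 1).factorial ^ d := by
  rcases hP with hP | hP
  · simpa [hP] using h.relIndex_Pr_dvd x hd
  · obtain ⟨z, hz⟩ := h.inn x
    have h1 : {z | _root_.flip r x z}.ncard = d := by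
      obtain ⟨g, h1, h2⟩ := h.trans hxy hz
      rw [← hd, h.ncard_eq hxy, ← relIndex_cj g, cj_stab, cj_stab, h1, h2, ← h.ncard_eq hz]
      exact h.ncard_flip hz
    simpa [hP] using h.flip.relIndex_Pr_dvd x h1

end index

theorem orb_of_orbit (hprim : IsPretransitive G Ω) {a b : Ω} (hab : a ≠ b) :
    Orb G fun x y => ∃ g : G, g • a = x ∧ g • b = y where
  inv := by
    rintro g _ _ ⟨k, rfl, rfl⟩
    exact ⟨g * k, mul_smul _ _ _, mul_smul _ _ _⟩
  trans := by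
    rintro _ _ _ _ ⟨k, rfl, rfl⟩ ⟨l, rfl, rfl⟩
    exact ⟨l * k⁻¹, by simp [mul_smul], by simp [mul_smul]⟩
  ne := by
    rintro _ _ ⟨k, rfl, rfl⟩ h
    exact hab (smul_left_cancel k h)
  out x := (hprim.exists_smul_eq a x).elim fun g hg => ⟨g • b, g, hg, rfl⟩
  inn y := (hprim.exists_smul_eq b y).elim fun g hg => ⟨g • a, g, rfl, hg⟩

theorem exists_orb [Finite Ω] (hprim : IsPretransitive G Ω) {a b : Ω} {d : ℕ}
    (hd : Nat.card (orbit (stabilizer G a) b) = d) (h2 : 2 ≤ d) :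
    ∃ r : Ω → Ω → Prop, Orb G r ∧ r a b ∧ {z | r a z}.ncard = d ∧
      {z | r a z} = orbit (stabilizer G a) b := by
  have hab : a ≠ b := by
    rintro rfl
    rw [CF.Perm.card_orbit_subgroup, relIndex_self] at hd
    omega
  have h := orb_of_orbit hprim hab
  have hr : ∃ g : G, g • a = a ∧ g • b = b := ⟨1, by simp, by simp⟩
  refine ⟨_, h, hr, by rw [h.ncard_eq hr, ← hd, CF.Perm.card_orbit_subgroup], ?_⟩
  ext z
  rw [CF.Perm.mem_orbit_subgroup_iff]
  rfl

end CF.Recog
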